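import Mathlib

/-!
Combinatorics of the Sylow 2-subgroup of `2⁶ : A₇`: the dihedral group of order 8 on seven points and
the even sign vectors.
-/

set_option autoImplicit false
set_option maxRecDepth 20000

namespace Cfsg.Agent.H14.OmegaSeven

open Equiv

attribute [local instance high] List.decidableBAll List.decidableBEx

/-- The permutation `(01)(23)`. -/
def d1 : Perm (Fin 7) :=
  ⟨![1, 0, 3, 2, 4, 5, 6], ![1, 0, 3, 2, 4, 5, 6], by decide +kernel, by decide +kernel⟩

/-- The permutation `(02)(45)`. -/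
def d2 : Perm (Fin 7) :=
  ⟨![2, 1, 0, 3, 5, 4, 6], ![2, 1, 0, 3, 5, 4, 6], by decide +kernel, by decide +kernel⟩

/-- The permutation `(0321)(45)`. -/
def r1 : Perm (Fin 7) :=
  ⟨![3, 0, 1, 2, 5, 4, 6], ![1, 2, 3, 0, 5, 4, 6], by decide +kernel, by decide +kernel⟩

/-- The permutation `(0123)(45)`. -/
def r3 : Perm (Fin 7) :=
  ⟨![1, 2, 3, 0, 5, 4, 6], ![3, 0, 1, 2, 5, 4, 6], by decide +kernel, by decide +kernel⟩

/-- The permutation `(13)(45)`. -/
def t1 : Perm (Fin 7) :=
  ⟨![0, 3, 2, 1, 5, 4, 6], ![0, 3, 2, 1, 5, 4, 6], by decide +kernel, by decide +kernel⟩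

/-- The permutation `(03)(12)`. -/
def t2 : Perm (Fin 7) :=
  ⟨![3, 2, 1, 0, 4, 5, 6], ![3, 2, 1, 0, 4, 5, 6], by decide +kernel, by decide +kernel⟩

/-- The permutation `(02)(13)`. -/
def r2 : Perm (Fin 7) :=
  ⟨![2, 3, 0, 1, 4, 5, 6], ![2, 3, 0, 1, 4, 5, 6], by decide +kernel, by decide +kernel⟩

/-- The elements of the dihedral group generated by `d1` and `d2`. -/
def kList : List (Perm (Fin 7)) :=
  [1, d1, d2, r1, r3, t1, t2, r2]

theorem kList_mul : ∀ x ∈ kList, ∀ y ∈ kList, x * y ∈ kList := by decide +kernel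

theorem kList_inv : ∀ x ∈ kList, x⁻¹ ∈ kList := by decide +kernel

theorem kList_nodup : kList.Nodup := by decide +kernel

theorem kList_sign : ∀ x ∈ kList, Perm.sign x = 1 := by decide +kernel

theorem d1_mem : d1 ∈ kList := by decide +kernel

theorem d2_mem : d2 ∈ kList := by decide +kernel

/-- The dihedral group of order 8. -/
def kGroup : Subgroup (Perm (Fin 7)) where
  carrier := {x | x ∈ kList}
  mul_mem' {x y} hx hy := kList_mul x hx y hy
  one_mem' := List.mem_cons_self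
  inv_mem' {x} hx := kList_inv x hx

theorem mem_kGroup {x : Perm (Fin 7)} : x ∈ kGroup ↔ x ∈ kList := Iff.rfl

theorem card_kGroup : Nat.card kGroup = 8 := by
  have e : kGroup ≃ {x // x ∈ kList.toFinset} :=
    Equiv.subtypeEquivRight fun x => by rw [List.mem_toFinset]; rfl
  rw [Nat.card_congr e, Nat.card_eq_finsetCard, List.toFinset_card_of_nodup kList_nodup]
  rfl

theorem kGroup_eq_closure {H : Subgroup (Perm (Fin 7))} (h1 : d1 ∈ H) (h2 : d2 ∈ H) :
    kGroup ≤ H := by
  intro x hx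
  simp only [mem_kGroup, kList, List.mem_cons, List.not_mem_nil, or_false] at hx
  have e : r1 = d1 * d2 ∧ r3 = d2 * d1 ∧ t1 = d1 * d2 * d1 ∧ t2 = d2 * d1 * d2 ∧
      r2 = d1 * d2 * d1 * d2 := by decide +kernel
  rw [e.1, e.2.1, e.2.2.1, e.2.2.2.1, e.2.2.2.2] at hx
  rcases hx with rfl | rfl | rfl | rfl | rfl | rfl | rfl | rfl <;>
    first
    | exact H.one_mem
    | exact h1
    | exact h2
    | exact H.mul_mem h1 h2
    | exact H.mul_mem h2 h1
    | exact H.mul_mem (H.mul_mem h1 h2) h1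
    | exact H.mul_mem (H.mul_mem h2 h1) h2
    | exact H.mul_mem (H.mul_mem (H.mul_mem h1 h2) h1) h2

/-- An involution of the group moves at least four points. -/
theorem exists_two_moved : ∀ x ∈ kList, x ≠ 1 →
    ∃ j k, x j ≠ j ∧ x k ≠ k ∧ k ≠ j ∧ k ≠ x j := by decide +kernel

/-- The conjugator carrying `d1` to `d2`. -/
def sig : Perm (Fin 7) := swap 3 5 * (swap 1 2 * swap 2 4) * swap 0 1

theorem sig_sign : Perm.sign sig = 1 := by decide +kernel

theorem sig_conj : sig * d1 * sig⁻¹ = d2 := by decide +kernel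

theorem normK_table : ∀ x ∈ kList, x * x = 1 → ∀ y ∈ kList, y * y = 1 → x * y ≠ y * x →
    ∀ l, x l = l → y l = l → ∀ i, x i ≠ i → y i ≠ i → ∀ j, x j = j → y j ≠ j →
      Function.Injective (![i, x i, y i, x (y i), j, y j, l] : Fin 7 → Fin 7) →
      ∃ k ∈ kList, (∀ a, (![i, x i, y i, x (y i), j, y j, l] : Fin 7 → Fin 7) a = k a) ∨
        ∀ a, (![i, x i, y i, x (y i), j, y j, l] : Fin 7 → Fin 7) a = ((k * swap 4 5 : Perm (Fin 7)) : Fin 7 → Fin 7) a := by decide +kernel

/-- The normalizer of the dihedral group inside the alternating group is the group itself. -/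
theorem normK {s : Perm (Fin 7)} (hs : Perm.sign s = 1) (h1 : s * d1 * s⁻¹ ∈ kList)
    (h2 : s * d2 * s⁻¹ ∈ kList) : s ∈ kList := by
  have hsq : ∀ d : Perm (Fin 7), d * d = 1 → s * d * s⁻¹ * (s * d * s⁻¹) = 1 := fun d hd => by
    rw [show s * d * s⁻¹ * (s * d * s⁻¹) = s * (d * d) * s⁻¹ by group, hd, mul_one, mul_inv_cancel]
  have hne : s * d1 * s⁻¹ * (s * d2 * s⁻¹) ≠ s * d2 * s⁻¹ * (s * d1 * s⁻¹) := by
    rw [show s * d1 * s⁻¹ * (s * d2 * s⁻¹) = s * (d1 * d2) * s⁻¹ by group,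
      show s * d2 * s⁻¹ * (s * d1 * s⁻¹) = s * (d2 * d1) * s⁻¹ by group]
    simpa using (by decide +kernel : d1 * d2 ≠ d2 * d1)
  have app : ∀ (d : Perm (Fin 7)) a, (s * d * s⁻¹) (s a) = s (d a) := fun d a => by simp
  have hmv : ∀ (d : Perm (Fin 7)) a, d a ≠ a → (s * d * s⁻¹) (s a) ≠ s a := fun d a h => by
    rw [app]; exact fun e => h (s.injective e)
  obtain ⟨k, hk, hcase⟩ := normK_table _ h1 (hsq _ (by decide +kernel)) _ h2
    (hsq _ (by decide +kernel)) hne (s 6) ((app d1 6).trans (by congr 1))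
    ((app d2 6).trans (by congr 1)) (s 0) (hmv _ _ (by decide +kernel))
    (hmv _ _ (by decide +kernel)) (s 4) ((app d1 4).trans (by congr 1))
    (hmv _ _ (by decide +kernel)) (by
      intro a b hab
      apply s.injective
      fin_cases a <;> fin_cases b <;> simp [app, d1, d2, Equiv.swap_apply_def] at hab ⊢ <;>
        exact hab)
  have hf : ∀ a, ![s 0, (s * d1 * s⁻¹) (s 0), (s * d2 * s⁻¹) (s 0),
      (s * d1 * s⁻¹) ((s * d2 * s⁻¹) (s 0)), s 4, (s * d2 * s⁻¹) (s 4), s 6] a = s a := by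
    intro a
    fin_cases a <;> simp [app, d1, d2, Equiv.swap_apply_def]
  rcases hcase with h | h
  · obtain rfl : s = k := Equiv.ext fun a => (hf a).symm.trans (h a)
    exact hk
  · obtain rfl : s = k * swap 4 5 := Equiv.ext fun a => (hf a).symm.trans (h a)
    rw [map_mul, kList_sign k hk, Perm.sign_swap (by decide)] at hs
    exact absurd hs (by decide)

/-- The sign vector with entries `-1` at `i` and `j`. -/
def pr (i j : Fin 7) : Fin 7 → ℤˣ := Pi.mulSingle i (-1) * Pi.mulSingle j (-1)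

/-- The even sign vectors. -/
def evenSgn : Subgroup (Fin 7 → ℤˣ) where
  carrier := {s | ∏ i, s i = 1}
  mul_mem' {s t} hs ht := by
    show ∏ i, (s * t) i = 1
    rw [Set.mem_setOf_eq] at hs ht
    simp [Finset.prod_mul_distrib, hs, ht]
  one_mem' := by simp
  inv_mem' {s} hs := by
    show ∏ i, s⁻¹ i = 1
    rw [Set.mem_setOf_eq] at hs
    simp [hs]

theorem mem_evenSgn {s : Fin 7 → ℤˣ} : s ∈ evenSgn ↔ ∏ i, s i = 1 := Iff.rfl

theorem card_evenSgn : Nat.card evenSgn = 64 := by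
  have e : evenSgn ≃ {s : Fin 7 → ℤˣ // ∏ i, s i = 1} := Equiv.subtypeEquivRight fun _ => Iff.rfl
  rw [Nat.card_congr e, Nat.card_eq_fintype_card]
  decide +kernel

theorem pr_mem : ∀ i j, pr i j ∈ evenSgn := by
  intro i j
  rw [mem_evenSgn]
  revert i j
  decide +kernel

theorem eq_prod_pr : ∀ s : Fin 7 → ℤˣ, (∏ i, s i = 1) →
    s = (List.ofFn fun i => if s i = 1 then 1 else pr i 6).prod := by decide +kernel

theorem pr_of_45 : ∀ i j, i ≠ j → pr i j = pr 4 5 ∘ ⇑(swap 5 ((swap 4 i) j) * swap 4 i) := by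
  decide +kernel

/-- Only the identity of the dihedral group fixes all pairs. -/
theorem eq_one_of_pr : ∀ x ∈ kList, (∀ i j : Fin 7, pr i j ∘ x = pr i j) → x = 1 := by decide +kernel

/-- The three non-trivial invariant even sign vectors. -/
theorem invariant_cases : ∀ s : Fin 7 → ℤˣ, (∏ i, s i = 1) → s ∘ d1 = s → s ∘ d2 = s →
    s = 1 ∨ s = pr 4 5 ∨ s = pr 0 1 * pr 2 3 ∨ s = pr 0 1 * pr 2 3 * pr 4 5 := by decide +kernel

/-- A set of even sign vectors closed under products and even permutations which contains a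
non-trivial invariant vector contains all even sign vectors. -/
theorem eq_evenSgn (A : Subgroup (Fin 7 → ℤˣ))
    (hp : ∀ s ∈ A, ∀ x : Perm (Fin 7), Perm.sign x = 1 → s ∘ x ∈ A) (s : Fin 7 → ℤˣ)
    (hs : s ∈ A) (h1 : s ≠ 1) (he : ∏ i, s i = 1) (hd1 : s ∘ d1 = s) (hd2 : s ∘ d2 = s) :
    evenSgn ≤ A := by
  have h45 : pr 4 5 ∈ A := by
    rcases invariant_cases s he hd1 hd2 with rfl | rfl | rfl | rfl
    · exact absurd rfl h1
    · exact hs
    · have h := hp _ (A.mul_mem hs (hp _ hs (swap 4 3 * swap 5 6) (by decide +kernel)))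
        (swap 3 5 * swap 0 1) (by decide +kernel)
      convert h using 1
      decide +kernel
    · have h := hp _ (A.mul_mem hs (hp _ hs (swap 5 6 * swap 0 1) (by decide +kernel)))
        (swap 4 6 * swap 0 1) (by decide +kernel)
      convert h using 1
      decide +kernel
  have hall : ∀ x : Perm (Fin 7), pr 4 5 ∘ x ∈ A := by
    intro x
    rcases Int.units_eq_one_or (Perm.sign x) with h | h
    · exact hp _ h45 x h
    · have := hp _ h45 (swap 4 5 * x) (by rw [map_mul, h, Perm.sign_swap (by decide)]; decide)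
      convert this using 1
      rw [Perm.coe_mul, ← Function.comp_assoc, (by decide +kernel : pr 4 5 ∘ swap 4 5 = pr 4 5)]
  intro t ht
  rw [eq_prod_pr t ht]
  refine A.list_prod_mem fun u hu => ?_
  rw [List.mem_ofFn] at hu
  obtain ⟨i, rfl⟩ := hu
  split_ifs
  · exact A.one_mem
  · rcases eq_or_ne i 6 with rfl | hi
    · rw [(by decide +kernel : pr 6 6 = 1)]; exact A.one_mem
    · rw [pr_of_45 i 6 hi]; exact hall _

end Cfsg.Agent.H14.OmegaSeven
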