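import Cfsg.Agent.Orthogonal.Spinor
import Cfsg.Agent.Orthogonal.StdForms
import Cfsg.Agent.H14.OmegaSeven.Combi

/-!
Signed permutations of a basis of pairwise orthogonal vectors of norm `-1` in dimension seven.
-/

set_option autoImplicit false

namespace Cfsg.Agent.H14.OmegaSeven

open Equiv QuadraticMap Module Cfsg.Agent.Orthogonal

variable {F V : Type*} [Field F] [AddCommGroup V] [Module F V]

/-- A sign as a scalar. -/
def sc : ℤˣ →* F :=
  (Int.castRingHom F).toMonoidHom.comp (Units.coeHom ℤ)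

theorem sc_apply (e : ℤˣ) : (sc e : F) = ((e : ℤ) : F) := rfl

theorem sc_mul_self (e : ℤˣ) : (sc e : F) * sc e = 1 := by
  rw [← map_mul, Int.units_mul_self, map_one]

theorem sc_neg_one : (sc (-1) : F) = -1 := by simp [sc_apply]

theorem sc_ne_zero (e : ℤˣ) : (sc e : F) ≠ 0 := left_ne_zero_of_mul_eq_one (sc_mul_self e)

theorem sc_eq_one_iff (h2 : (2 : F) ≠ 0) {e : ℤˣ} : (sc e : F) = 1 ↔ e = 1 := by
  rcases Int.units_eq_one_or e with rfl | rfl
  · simp
  · rw [sc_neg_one]
    exact iff_of_false (fun h => h2 (by linear_combination -h)) (by decide)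

theorem exists_sgn (c : F) (hc : c ^ 2 = 1) : ∃ e : ℤˣ, c = sc e := by
  rcases sq_eq_one_iff.1 hc with rfl | rfl
  · exact ⟨1, (map_one _).symm⟩
  · exact ⟨-1, sc_neg_one.symm⟩

/-- A basis of pairwise orthogonal vectors of norm `-1`. -/
structure Fr (Q : QuadraticForm F V) where
  /-- The basis. -/
  b : Module.Basis (Fin 7) F V
  qb : ∀ i, Q (b i) = -1
  ortho : ∀ i j, i ≠ j → polar Q (b i) (b j) = 0
  two : (2 : F) ≠ 0

namespace Fr

variable {Q : QuadraticForm F V} (fr : Fr Q)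

theorem polar_eq (i j : Fin 7) : polar Q (fr.b i) (fr.b j) = if i = j then -2 else 0 := by
  split_ifs with h
  · subst h; rw [polar_self', fr.qb]; ring
  · exact fr.ortho i j h

theorem polar_repr (i : Fin 7) (x : V) : polar Q (fr.b i) x = -2 * fr.b.repr x i := by
  conv_lhs => rw [← fr.b.sum_repr x]
  rw [← polarBilin_apply', map_sum]
  simp [polar_eq]
  ring

theorem mem_O_of (g : V ≃ₗ[F] V)
    (h : ∀ i j, polar Q (g (fr.b i)) (g (fr.b j)) = polar Q (fr.b i) (fr.b j)) : g ∈ O Q := by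
  intro x
  have e : Q.polarBilin.compl₁₂ (g : V →ₗ[F] V) (g : V →ₗ[F] V) = Q.polarBilin :=
    LinearMap.ext_basis fr.b fr.b fun i j => by simpa using h i j
  have h1 := LinearMap.congr_fun (LinearMap.congr_fun e x) x
  simp only [LinearMap.compl₁₂_apply, LinearEquiv.coe_coe, polarBilin_apply', polar_self'] at h1
  exact mul_left_cancel₀ fr.two h1

/-- The linear map `b i ↦ s i • b (x i)`. -/
noncomputable def monL (x : Perm (Fin 7)) (s : Fin 7 → ℤˣ) : V ≃ₗ[F] V :=
  fr.b.equiv (fr.b.unitsSMul fun i => Units.mk0 (sc (s (x.symm i))) (sc_ne_zero _)) x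

theorem monL_basis (x : Perm (Fin 7)) (s : Fin 7 → ℤˣ) (i : Fin 7) :
    fr.monL x s (fr.b i) = (sc (s i) : F) • fr.b (x i) := by
  simp [monL, Module.Basis.unitsSMul_apply, Units.smul_def]

/-- A signed permutation as an isometry. -/
noncomputable def mon (x : Perm (Fin 7)) (s : Fin 7 → ℤˣ) : O Q :=
  ⟨fr.monL x s, fr.mem_O_of _ fun i j => by
    rw [monL_basis, monL_basis, polar_smul_left', polar_smul_right', polar_eq, polar_eq]
    by_cases h : i = j
    · subst h; simp only [if_true]; rw [← mul_assoc, sc_mul_self, one_mul]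
    · simp [h]⟩

theorem mon_basis (x : Perm (Fin 7)) (s : Fin 7 → ℤˣ) (i : Fin 7) :
    (fr.mon x s : V ≃ₗ[F] V) (fr.b i) = (sc (s i) : F) • fr.b (x i) := fr.monL_basis x s i

theorem ext_b {g h : O Q} (e : ∀ i, (g : V ≃ₗ[F] V) (fr.b i) = (h : V ≃ₗ[F] V) (fr.b i)) :
    g = h :=
  Subtype.ext (fr.b.ext' e)

theorem mon_mul (x y : Perm (Fin 7)) (s t : Fin 7 → ℤˣ) :
    fr.mon x s * fr.mon y t = fr.mon (x * y) (t * s ∘ y) := by
  refine fr.ext_b fun i => ?_
  rw [Subgroup.coe_mul, mul_app, mon_basis, map_smul, mon_basis, mon_basis, smul_smul, ← map_mul]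
  rfl

theorem mon_one : fr.mon 1 1 = 1 := by
  refine fr.ext_b fun i => ?_
  simp [mon_basis]

theorem mon_inj {x y : Perm (Fin 7)} {s t : Fin 7 → ℤˣ} (h : fr.mon x s = fr.mon y t) :
    x = y ∧ s = t := by
  have key : ∀ i, x i = y i ∧ s i = t i := by
    intro i
    have h1 := congrArg (fun g : O Q => fr.b.repr ((g : V ≃ₗ[F] V) (fr.b i))) h
    simp only [mon_basis, map_smul, Module.Basis.repr_self, Finsupp.smul_single, smul_eq_mul,
      mul_one] at h1
    rcases Finsupp.single_eq_single_iff _ _ _ _ |>.1 h1 with ⟨h2, h3⟩ | ⟨h2, -⟩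
    · refine ⟨h2, ?_⟩
      rcases Int.units_eq_one_or (t i) with h4 | h4 <;> rw [h4] at h3 ⊢
      · rwa [map_one, sc_eq_one_iff fr.two] at h3
      · rcases Int.units_eq_one_or (s i) with h5 | h5 <;> rw [h5] at h3 ⊢
        rw [map_one, eq_comm, sc_eq_one_iff fr.two] at h3
        exact h3.symm
    · exact absurd h2 (sc_ne_zero _)
  exact ⟨Equiv.ext fun i => (key i).1, funext fun i => (key i).2⟩

/-- Permutations of the basis. -/
noncomputable def perm : Perm (Fin 7) →* O Q where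
  toFun x := fr.mon x 1
  map_one' := fr.mon_one
  map_mul' x y := by rw [mon_mul]; simp [Pi.one_comp]

/-- Sign changes of the basis. -/
noncomputable def diag : (Fin 7 → ℤˣ) →* O Q where
  toFun s := fr.mon 1 s
  map_one' := fr.mon_one
  map_mul' s t := by
    rw [mon_mul, one_mul]
    simp [mul_comm s t]

theorem perm_apply (x : Perm (Fin 7)) : fr.perm x = fr.mon x 1 := rfl

theorem diag_apply (s : Fin 7 → ℤˣ) : fr.diag s = fr.mon 1 s := rfl

theorem mon_eq (x : Perm (Fin 7)) (s : Fin 7 → ℤˣ) : fr.mon x s = fr.perm x * fr.diag s := by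
  rw [perm_apply, diag_apply, mon_mul, mul_one]
  simp

theorem perm_conj_diag (x : Perm (Fin 7)) (s : Fin 7 → ℤˣ) :
    fr.perm x * fr.diag s * (fr.perm x)⁻¹ = fr.diag (s ∘ ⇑x⁻¹) := by
  rw [← map_inv, perm_apply, diag_apply, perm_apply, diag_apply, mon_mul, mon_mul]
  simp

theorem diag_single (i : Fin 7) : fr.diag (Pi.mulSingle i (-1)) = rO Q (fr.b i) := by
  refine fr.ext_b fun j => ?_
  rw [diag_apply, mon_basis]
  by_cases h : j = i
  · subst h
    rw [rO_self (by rw [fr.qb]; simp), Pi.mulSingle_eq_same, sc_neg_one]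
    simp
  · rw [rO_fix (fr.ortho i j (Ne.symm h)), Pi.mulSingle_eq_of_ne h]
    simp

theorem qb_ne (i : Fin 7) : Q (fr.b i) ≠ 0 := by rw [fr.qb]; simp

theorem q_sub {i j : Fin 7} (h : i ≠ j) : Q (fr.b i - fr.b j) = -2 := by
  rw [qmap_sub, fr.qb, fr.qb, fr.ortho i j h]; ring

theorem q_add {i j : Fin 7} (h : i ≠ j) : Q (fr.b i + fr.b j) = -2 := by
  rw [map_add_polar, fr.qb, fr.qb, fr.ortho i j h]; ring

theorem perm_swap {i j : Fin 7} (h : i ≠ j) :
    fr.perm (swap i j) = rO Q (fr.b i - fr.b j) := by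
  have hne : Q (fr.b i - fr.b j) ≠ 0 := by rw [fr.q_sub h]; simpa using fr.two
  refine fr.ext_b fun k => ?_
  rw [perm_apply, mon_basis]
  simp only [Pi.one_apply, map_one, one_smul]
  by_cases hi : k = i
  · subst hi
    rw [swap_apply_left, rO_sub_swap (by rw [fr.qb, fr.qb]) hne]
  by_cases hj : k = j
  · subst hj
    have e := rO_sub_swap (x := fr.b i) (y := fr.b k) (by rw [fr.qb, fr.qb]) hne
    rw [swap_apply_right]
    have e3 : (rO Q (fr.b i - fr.b k) : V ≃ₗ[F] V)
        ((rO Q (fr.b i - fr.b k) : V ≃ₗ[F] V) (fr.b i)) = fr.b i := reflLin_involutive Q _ _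
    rw [e] at e3
    exact e3.symm
  · rw [swap_apply_of_ne_of_ne hi hj, rO_fix]
    rw [polar_sub_left, fr.ortho i k (Ne.symm hi), fr.ortho j k (Ne.symm hj), sub_zero]

end Fr

/-- Reflections in orthogonal vectors of equal norm depend on their plane only. -/
theorem rO_mul_rO_rot {Q : QuadraticForm F V} (h2 : (2 : F) ≠ 0) {x y : V}
    (hxy : polar Q x y = 0) (hq : Q x = Q y) (hx : Q x ≠ 0) :
    rO Q x * rO Q y = rO Q (x + y) * rO Q (x - y) := by
  refine O.ext_app fun z => ?_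
  have hp : Q (x + y) = 2 * Q x := by rw [map_add_polar, ← hq, hxy]; ring
  have hm : Q (x - y) = 2 * Q x := by rw [qmap_sub, ← hq, hxy]; ring
  have hxy' : polar Q y x = 0 := by rw [polar_comm]; exact hxy
  simp only [Subgroup.coe_mul, mul_app, rO_app, hp, hm, ← hq, polar_sub_right, polar_smul_right',
    polar_add_left, polar_sub_left, polar_self', hxy, hxy']
  match_scalars <;> field_simp <;> ring

end Cfsg.Agent.H14.OmegaSeven
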