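import Cfsg.Agent.H14.OmegaSeven.Sylow
import Cfsg.Agent.Orthogonal.POmega
import Cfsg.Agent.H89.SelfNormalizing
import Cfsg.Prelude.Def_KGroupFacts

/-!
The 2-fusion system of `Ω₇(q)`, `q ≡ ±3 (mod 8)`.
-/

set_option autoImplicit false

namespace Cfsg.Agent.H14.OmegaSeven

open QuadraticMap Module Cfsg Cfsg.FusionSystem Cfsg.Agent.Orthogonal Cfsg.Agent.H89
open Cfsg.Agent.FusionSys

/-- A subgroup of `p`-power order and index prime to `p`, self-normalizing and fusion-rigid. -/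
structure Rigid {G : Type*} [Group G] (p : ℕ) (P : Subgroup G) : Prop where
  isPGroup : IsPGroup p P
  index : ¬ p ∣ P.index
  selfNorm : ∀ n, (∀ x ∈ P, n * x * n⁻¹ ∈ P) → n ∈ P
  rigid : FusionRigid P

theorem Rigid.map {G H : Type*} [Group G] [Group H] {p : ℕ} {P : Subgroup G} (h : Rigid p P)
    (e : G ≃* H) : Rigid p (P.map e.toMonoidHom) where
  isPGroup := h.isPGroup.map _
  index := by
    rw [Subgroup.index_map_of_bijective e.bijective]
    exact h.index
  selfNorm n hn := by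
    refine ⟨e.symm n, h.selfNorm _ fun x hx => ?_, e.apply_symm_apply n⟩
    obtain ⟨y, hy, hye⟩ := hn (e x) ⟨x, hx, rfl⟩
    have : y = e.symm n * x * (e.symm n)⁻¹ := e.injective (by simpa using hye)
    exact this ▸ hy
  rigid T hT hcl := by
    rintro ⟨z, hz, hz1, hzc⟩
    have key := h.rigid (T.comap e.toMonoidHom) (fun x hx => ?_) (fun x hx g hg => ?_)
      ⟨e.symm z, ?_, ?_, ?_⟩
    · refine le_antisymm hT ?_
      rintro _ ⟨x, hx, rfl⟩
      rw [← key] at hx
      exact hx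
    · obtain ⟨y, hy, hye⟩ := hT hx
      exact e.injective hye ▸ hy
    · show e (g * x * g⁻¹) ∈ T
      rw [map_mul, map_mul, map_inv]
      exact hcl _ hx _ ⟨_, hg, by simp⟩
    · show e (e.symm z) ∈ T
      rwa [e.apply_symm_apply]
    · exact fun h0 => hz1 (by rw [← e.apply_symm_apply z, h0, map_one])
    · intro s hs
      apply e.injective
      rw [map_mul, map_mul, e.apply_symm_apply]
      exact hzc _ ⟨s, hs, rfl⟩

theorem two_ne_zero_and_not_isSquare {F : Type*} [Field F] [Finite F]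
    (hq : Nat.card F % 8 = 3 ∨ Nat.card F % 8 = 5) : (2 : F) ≠ 0 ∧ ¬ IsSquare (2 : F) := by
  have := Fintype.ofFinite F
  have hns : ¬ IsSquare (2 : F) := by
    rw [FiniteField.isSquare_two_iff, ← Nat.card_eq_fintype_card]
    omega
  exact ⟨fun h => hns (by rw [h]; exact IsSquare.zero), hns⟩

theorem exists_frame {F : Type*} [Field F] [Finite F] (h2 : (2 : F) ≠ 0) :
    ∃ _fr : Fr (formOdd F 3), True := by
  have := Fintype.ofFinite F
  obtain ⟨p, hp⟩ := CharP.exists F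
  have : Fact p.Prime :=
    ⟨(CharP.char_is_prime_or_zero F p).resolve_right (CharP.char_ne_zero_of_finite F p)⟩
  obtain ⟨x, y, hxy⟩ : ∃ x y : F, x ^ 2 + y ^ 2 = -1 := by
    obtain ⟨x, y, hxy⟩ := FiniteField.exists_root_sum_quadratic (R := F)
      (f := Polynomial.X ^ 2) (g := Polynomial.X ^ 2 + Polynomial.C 1)
      (Polynomial.degree_X_pow 2) (Polynomial.degree_X_pow_add_C two_pos 1)
      (by
        rw [← Nat.card_eq_fintype_card]
        exact Nat.odd_iff.1 (odd_natCard_of_two_ne_zero h2))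
    exact ⟨x, y, by simp at hxy; linear_combination hxy⟩
  let U := Unit ⊕ (Fin 3 ⊕ Fin 3) → F
  let mk : F → (Fin 3 → F) → (Fin 3 → F) → U := fun z a b => Sum.elim (fun _ => z) (Sum.elim a b)
  let v : Fin 7 → U := ![mk 0 ![1, 0, 0] ![-1, 0, 0], mk 0 ![0, 1, 0] ![0, -1, 0],
    mk 0 ![0, 0, 1] ![0, 0, -1], mk x ![y, 0, 0] ![y, 0, 0], mk y ![-x, 0, 0] ![-x, 0, 0],
    mk 0 ![0, x, y] ![0, x, y], mk 0 ![0, y, -x] ![0, y, -x]]
  have hqv : ∀ i, formOdd F 3 (v i) = -1 := by
    intro i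
    fin_cases i <;> simp [v, mk, formOdd_coe, Cfsg.quadFormOdd, Fin.sum_univ_three] <;>
      linear_combination hxy
  have hpol : ∀ i j, i ≠ j → polar (formOdd F 3) (v i) (v j) = 0 := by
    intro i j hij
    fin_cases i <;> fin_cases j <;>
      simp [v, mk, polar_formOdd, Fin.sum_univ_three] at hij ⊢ <;> ring
  have hli : LinearIndependent F v := by
    refine Fintype.linearIndependent_iff.2 fun c hc i => ?_
    have h1 := congrArg (fun w => polar (formOdd F 3) (v i) w) hc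
    simp only [polar_zero_right] at h1
    rw [← polarBilin_apply', map_sum] at h1
    rw [Finset.sum_eq_single i (fun j _ hj => by
      rw [map_smul, polarBilin_apply', hpol i j (Ne.symm hj), smul_zero]) (by simp),
      map_smul, polarBilin_apply', polar_self', hqv, smul_eq_mul] at h1
    exact (mul_eq_zero.1 h1).resolve_right (mul_ne_zero h2 (by simp))
  let b := basisOfLinearIndependentOfCardEqFinrank hli (by
    rw [finrank_formOdd]; rfl)
  exact ⟨⟨b, fun i => by simpa [b] using hqv i, fun i j h => by simpa [b] using hpol i j h, h2⟩,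
    trivial⟩

theorem arith {q : ℕ} (hq : q % 8 = 3 ∨ q % 8 = 5) :
    ∃ m, Odd m ∧ oprod q 3 = 1024 * m := by
  obtain ⟨k, hk⟩ : ∃ k, q ^ 2 = 16 * k + 9 := by
    rcases hq with h | h
    · obtain ⟨t, rfl⟩ : ∃ t, q = 8 * t + 3 := ⟨q / 8, by omega⟩
      exact ⟨4 * t ^ 2 + 3 * t, by ring⟩
    · obtain ⟨t, rfl⟩ : ∃ t, q = 8 * t + 5 := ⟨q / 8, by omega⟩
      exact ⟨4 * t ^ 2 + 5 * t + 1, by ring⟩
  refine ⟨(2 * k + 1) * ((2 * k + 1) * (8 * k + 5)) * ((2 * k + 1) *
    (256 * k ^ 2 + 304 * k + 91)), ?_, ?_⟩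
  · simp only [Nat.odd_mul]
    refine ⟨⟨?_, ?_, ?_⟩, ?_, ?_⟩ <;> rw [Nat.odd_iff] <;> omega
  · have e4 : q ^ 4 = (q ^ 2) ^ 2 := by ring
    have e6 : q ^ 6 = (q ^ 2) ^ 3 := by ring
    simp only [oprod, Finset.prod_range_succ, Finset.prod_range_zero, one_mul]
    norm_num
    rw [e4, e6, hk, show 16 * k + 9 - 1 = 8 * (2 * k + 1) by omega,
      show (16 * k + 9) ^ 2 - 1 = 16 * ((2 * k + 1) * (8 * k + 5)) by
        apply Nat.sub_eq_of_eq_add; ring,
      show (16 * k + 9) ^ 3 - 1 = 8 * ((2 * k + 1) * (256 * k ^ 2 + 304 * k + 91)) by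
        apply Nat.sub_eq_of_eq_add; ring]
    ring

theorem exists_rigid {F : Type*} [Field F] [Finite F]
    (hq : Nat.card F % 8 = 3 ∨ Nat.card F % 8 = 5) :
    ∃ P : Subgroup (Cfsg.Omega F (Cfsg.quadFormOdd 3 F)), Rigid 2 P ∧ P ≠ ⊥ := by
  obtain ⟨h2, hns⟩ := two_ne_zero_and_not_isSquare hq
  obtain ⟨fr, -⟩ := exists_frame h2
  set Q := formOdd F 3
  have hQ : Nondeg Q := formOdd_nondeg F 3 h2
  have hle := fr.syl_le_omega hQ hns
  set W := commutator (O Q)
  set R : Subgroup W := fr.syl.subgroupOf W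
  have hcard : Nat.card R = 2 ^ 9 :=
    (Nat.card_congr (Subgroup.subgroupOfEquivOfLe hle).toEquiv).trans fr.card_syl
  obtain ⟨m, hm, hm'⟩ := arith hq
  have hO := card_O_odd 3 Q hQ (formOdd_frame F 3) (formOdd_aniso F 3) (finrank_formOdd F 3)
  have h4 := index_commutator_eq_four hQ h2 (by rw [finrank_formOdd]; norm_num)
  rw [hm', ← Subgroup.card_mul_index W, h4, ← R.card_mul_index, hcard] at hO
  have hidx : R.index = Nat.card F ^ 3 ^ 2 * m :=
    Nat.eq_of_mul_eq_mul_left (show 0 < 2 ^ 9 * 4 by norm_num) (by linear_combination hO)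
  have hR : Rigid 2 R := by
    refine ⟨IsPGroup.of_card hcard, ?_, fun n hn => ?_, ?_⟩
    · rw [hidx, ← even_iff_two_dvd, Nat.not_even_iff_odd]
      exact ((odd_natCard_of_two_ne_zero h2).pow).mul hm
    · refine Subgroup.mem_subgroupOf.2 (fr.mem_syl_of_normalizes hQ hns n.2 fun y hy => ?_)
      exact hn ⟨y, hle hy⟩ hy
    · rintro T hT hcl ⟨z, hz, hz1, hzc⟩
      have key := fr.eq_syl_of_closed hQ hns (T := T.map W.subtype) ?_ ?_ (z := (z : O Q))
        ⟨z, hz, rfl⟩ (fun h => hz1 (Subtype.ext h)) fun y hy =>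
          congrArg Subtype.val (hzc ⟨y, hle hy⟩ hy)
      · refine le_antisymm hT fun x hx => ?_
        have hx' : (x : O Q) ∈ T.map W.subtype := by rw [key]; exact hx
        obtain ⟨y, hy, hyx⟩ := hx'
        exact Subtype.ext hyx ▸ hy
      · rintro _ ⟨x, hx, rfl⟩
        exact hT hx
      · rintro _ ⟨x, hx, rfl⟩ g hg hgx
        exact ⟨⟨g, hg⟩ * x * ⟨g, hg⟩⁻¹, hcl x hx ⟨g, hg⟩ hgx, rfl⟩
  refine ⟨R.map (omegaEquiv Q).symm.toMonoidHom, hR.map _, fun h => ?_⟩
  have hR1 : R = ⊥ := (Subgroup.map_eq_bot_iff_of_injective _ (omegaEquiv Q).symm.injective).1 h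
  rw [hR1, Subgroup.card_bot] at hcard
  norm_num at hcard

/-- The statement on an arbitrary Sylow subgroup. -/
theorem fusion_facts {G : Type*} [Group G] [Finite G] {P : Subgroup G} (h : Rigid 2 P)
    (hP1 : P ≠ ⊥) (S : Sylow 2 G) :
    (Cfsg.groupFusionSystem (S : Subgroup G)).autGroup (S : Subgroup G) = Cfsg.Inn ↥(S : Subgroup G) ∧
      (∀ T : Subgroup G, (Cfsg.groupFusionSystem (S : Subgroup G)).StronglyClosed T →
        T = ⊥ ∨ T = (S : Subgroup G)) ∧
      (Cfsg.groupFusionSystem (S : Subgroup G)).IsSimple 2 := by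
  obtain ⟨c, hc⟩ := MulAction.exists_smul_eq G (h.isPGroup.toSylow h.index) S
  have hS : (S : Subgroup G) = P.map (MulAut.conj c).toMonoidHom := by
    rw [← hc]; rfl
  have hR : Rigid 2 (S : Subgroup G) := hS ▸ h.map (MulAut.conj c)
  have hS1 : (S : Subgroup G) ≠ ⊥ := fun h0 =>
    hP1 ((Subgroup.map_eq_bot_iff_of_injective _ (MulAut.conj c).injective).1 (hS ▸ h0))
  refine ⟨?_, fun T hT => ?_, isSimple_of_fusionRigid S hS1
    (fun n hn => hR.selfNorm n fun x hx => (Subgroup.mem_normalizer_iff.1 hn x).1 hx) hR.rigid⟩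
  · refine le_antisymm (fun α hα => ?_) ?_
    · obtain ⟨-, a, ha⟩ := isMap_group_iff.1 ((mem_autGroup_iff le_rfl).1 hα)
      have haS : a ∈ (S : Subgroup G) := hR.selfNorm a fun x hx => (ha x hx).1
      refine ⟨⟨a, haS⟩, MulEquiv.ext fun y => Subtype.ext ?_⟩
      show a * (y : G) * a⁻¹ = _
      rw [← (ha y y.2).2, autMap_coe]
    · rintro _ ⟨y, rfl⟩
      have hy : (y : G) ∈ normalizerIn (S : Subgroup G) (S : Subgroup G) :=
        ⟨y.2, Subgroup.le_normalizer y.2⟩
      have := conjAut_mem_autGroup (groupFusionSystem (S : Subgroup G)) le_rfl hy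
      have e : conjAut hy.2 = MulAut.conj y := MulEquiv.ext fun z => Subtype.ext rfl
      rwa [e] at this
  · by_cases hne : T = ⊥
    · exact Or.inl hne
    · exact Or.inr (hR.rigid T hT.1 (fun x hx g hg => mem_of_conj_mem hT hx hg)
        (exists_central_mem S hT hne))

end Cfsg.Agent.H14.OmegaSeven
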