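import Cfsg.Agent.H14.OmegaSeven.Frame

/-!
The subgroup `2⁶ : D₈` of `Ω₇(q)`, `2` a non-square: self-normalizing and fusion-rigid.
-/

set_option autoImplicit false

namespace Cfsg.Agent.H14.OmegaSeven

open Equiv QuadraticMap Module Cfsg.Agent.Orthogonal

variable {F V : Type*} [Field F] [AddCommGroup V] [Module F V] [FiniteDimensional F V] [Finite F]
  {Q : QuadraticForm F V} (fr : Fr Q)

namespace Fr

/-- `2⁶ : D₈`. -/
noncomputable def syl : Subgroup (O Q) where
  carrier := {g | ∃ x ∈ kGroup, ∃ s ∈ evenSgn, g = fr.mon x s}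
  mul_mem' := by
    rintro _ _ ⟨x, hx, s, hs, rfl⟩ ⟨y, hy, t, ht, rfl⟩
    refine ⟨x * y, kGroup.mul_mem hx hy, t * s ∘ y, ?_, fr.mon_mul x y s t⟩
    rw [mem_evenSgn] at hs ht ⊢
    simp only [Pi.mul_apply, Function.comp_apply, Finset.prod_mul_distrib, ht, one_mul]
    rwa [Equiv.prod_comp y s]
  one_mem' := ⟨1, kGroup.one_mem, 1, evenSgn.one_mem, fr.mon_one.symm⟩
  inv_mem' := by
    rintro _ ⟨x, hx, s, hs, rfl⟩
    refine ⟨x⁻¹, kGroup.inv_mem hx, s ∘ ⇑x⁻¹, ?_, inv_eq_of_mul_eq_one_right ?_⟩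
    · rw [mem_evenSgn] at hs ⊢
      exact (Equiv.prod_comp x⁻¹ s).trans hs
    · rw [mon_mul, mul_inv_cancel,
        show s ∘ ⇑x⁻¹ * s ∘ ⇑x⁻¹ = 1 from funext fun i => Int.units_mul_self _, mon_one]

theorem diag_mem_syl {s : Fin 7 → ℤˣ} (hs : s ∈ evenSgn) : fr.diag s ∈ fr.syl :=
  ⟨1, kGroup.one_mem, s, hs, rfl⟩

theorem perm_mem_syl {x : Perm (Fin 7)} (hx : x ∈ kGroup) : fr.perm x ∈ fr.syl :=
  ⟨x, hx, 1, evenSgn.one_mem, rfl⟩

theorem card_syl : Nat.card fr.syl = 2 ^ 9 := by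
  let f : kGroup × evenSgn → fr.syl :=
    fun p => ⟨fr.mon (p.1 : Perm (Fin 7)) (p.2 : Fin 7 → ℤˣ), p.1, p.1.2, p.2, p.2.2, rfl⟩
  have hf : Function.Bijective f := by
    refine ⟨fun p r h => ?_, ?_⟩
    · obtain ⟨h1, h2⟩ := fr.mon_inj (congrArg Subtype.val h)
      exact Prod.ext (Subtype.ext h1) (Subtype.ext h2)
    · rintro ⟨_, x, hx, s, hs, rfl⟩
      exact ⟨(⟨x, hx⟩, ⟨s, hs⟩), rfl⟩
  rw [← Nat.card_congr (Equiv.ofBijective f hf), Nat.card_prod, card_kGroup, card_evenSgn]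
  norm_num

theorem sqSign_ne (h2 : (2 : F) ≠ 0) (hns : ¬ IsSquare (2 : F)) : sqSign (-1 : F) * sqSign (-2 : F) = -1 := by
  rw [← sqSign_mul h2 (by simp) (by simpa using h2)]
  exact sqSign_of_not_isSquare (by simpa using hns)

theorem hom_diag (χ : O Q →* ℤˣ) (c : ℤˣ) (h : ∀ i, χ (rO Q (fr.b i)) = c)
    (s : Fin 7 → ℤˣ) : χ (fr.diag s) = if ∏ i, s i = 1 then 1 else c := by
  let ψ : ℤˣ →* ℤˣ :=
    { toFun := fun e => if e = 1 then 1 else c
      map_one' := if_pos rfl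
      map_mul' := fun a b => by
        rcases Int.units_eq_one_or a with rfl | rfl <;> rcases Int.units_eq_one_or b with rfl | rfl
        all_goals simp [Int.units_mul_self] }
  have e : χ.comp fr.diag = ψ.comp (∏ i, Pi.evalMonoidHom (fun _ : Fin 7 => ℤˣ) i) := by
    refine MonoidHom.functions_ext _ _ _ fun i e => ?_
    rcases Int.units_eq_one_or e with rfl | rfl
    · simp
    · rw [MonoidHom.comp_apply, MonoidHom.comp_apply, diag_single, h i,
        MonoidHom.finset_prod_apply]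
      simp only [Pi.evalMonoidHom_apply, Finset.prod_pi_mulSingle', Finset.mem_univ, if_true]
      show c = if (-1 : ℤˣ) = 1 then 1 else c
      rw [if_neg (by decide)]
  have := DFunLike.congr_fun e s
  simpa [MonoidHom.finset_prod_apply, ψ] using this

theorem hom_perm (χ : O Q →* ℤˣ) (c : ℤˣ) (h : ∀ i j, i ≠ j → χ (rO Q (fr.b i - fr.b j)) = c)
    (x : Perm (Fin 7)) : χ (fr.perm x) = if Perm.sign x = 1 then 1 else c := by
  induction x using Perm.swap_induction_on with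
  | one => simp
  | swap_mul f i j hij ih =>
    rw [map_mul fr.perm, map_mul χ, fr.perm_swap hij, h i j hij, ih, Perm.sign_mul,
      Perm.sign_swap hij]
    rcases Int.units_eq_one_or (Perm.sign f) with h1 | h1 <;> simp [h1, Int.units_mul_self]

/-- Signed permutations in `Ω`. -/
theorem mon_mem_omega_iff (hQ : Nondeg Q) (hns : ¬ IsSquare (2 : F)) (x : Perm (Fin 7))
    (s : Fin 7 → ℤˣ) :
    fr.mon x s ∈ commutator (O Q) ↔ Perm.sign x = 1 ∧ ∏ i, s i = 1 := by
  have hd : detSign Q hQ fr.two (fr.mon x s) = Perm.sign x * ∏ i, s i := by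
    rw [mon_eq, map_mul, fr.hom_perm _ (-1) fun i j hij => detSign_rO hQ fr.two
      (by rw [fr.q_sub hij]; simpa using fr.two), fr.hom_diag _ (-1) fun i =>
      detSign_rO hQ fr.two (fr.qb_ne i)]
    rcases Int.units_eq_one_or (Perm.sign x) with h | h <;>
      rcases Int.units_eq_one_or (∏ i, s i) with h' | h' <;> simp [h, h']
  have hs : spinor Q hQ fr.two (fr.mon x s) = (if Perm.sign x = 1 then 1 else sqSign (-2 : F)) *
      (if ∏ i, s i = 1 then 1 else sqSign (-1 : F)) := by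
    rw [mon_eq, map_mul,
      fr.hom_perm _ (sqSign (-2 : F)) fun i j hij => by
        rw [spinor_rO hQ fr.two (by rw [fr.q_sub hij]; simpa using fr.two), fr.q_sub hij],
      fr.hom_diag _ (sqSign (-1 : F)) fun i => by
        rw [spinor_rO hQ fr.two (fr.qb_ne i), fr.qb]]
  rw [mem_commutator_iff hQ fr.two, hd, hs]
  have hne := sqSign_ne fr.two hns
  rcases Int.units_eq_one_or (Perm.sign x) with h | h <;>
    rcases Int.units_eq_one_or (∏ i, s i) with h' | h' <;> simp [h, h']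
  rw [mul_comm, hne]
  decide

theorem syl_le_omega (hQ : Nondeg Q) (hns : ¬ IsSquare (2 : F)) :
    fr.syl ≤ commutator (O Q) := by
  rintro _ ⟨x, hx, s, hs, rfl⟩
  exact (fr.mon_mem_omega_iff hQ hns x s).2 ⟨kList_sign x hx, hs⟩

theorem perm_conj_mem_omega (hQ : Nondeg Q) (hns : ¬ IsSquare (2 : F)) {x : Perm (Fin 7)}
    (hx : Perm.sign x = 1) : fr.perm x ∈ commutator (O Q) :=
  (fr.mon_mem_omega_iff hQ hns x 1).2 ⟨hx, by simp⟩

/-- The signs with exactly one `1`, at `i`. -/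
def six (i : Fin 7) : Fin 7 → ℤˣ := fun k => if k = i then 1 else -1

theorem six_mem (i : Fin 7) : six i ∈ evenSgn := by
  rw [mem_evenSgn]
  revert i
  decide +kernel

theorem fixed_of_six {i : Fin 7} {w : V} (h : (fr.diag (six i) : V ≃ₗ[F] V) w = w) :
    ∃ c : F, w = c • fr.b i := by
  refine ⟨fr.b.repr w i, ?_⟩
  apply fr.b.repr.injective
  ext k
  rw [map_smul, Module.Basis.repr_self, Finsupp.smul_single, smul_eq_mul, mul_one]
  by_cases hk : k = i
  · subst hk; simp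
  · rw [Finsupp.single_eq_of_ne hk]
    have h1 := congrArg (fun v => polar Q (fr.b k) v) h
    conv_lhs at h1 =>
      rw [← O.polar_app (fr.diag (six i))⁻¹, ← mul_app, ← Subgroup.coe_mul, inv_mul_cancel]
    have e : ((fr.diag (six i))⁻¹ : O Q) = fr.diag (six i) := by
      refine inv_eq_of_mul_eq_one_right ?_
      rw [← map_mul, show six i * six i = 1 from funext fun a => Int.units_mul_self _, map_one]
    rw [e, diag_apply, mon_basis, six, if_neg hk, sc_neg_one, Perm.one_apply,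
      Subgroup.coe_one, one_app, neg_one_smul, polar_neg_left, polar_repr] at h1
    have h3 : 2 * 2 * fr.b.repr w k = 0 := by linear_combination h1
    exact (mul_eq_zero.1 h3).resolve_left (mul_ne_zero fr.two fr.two)

/-- An involution of the group whose fixed space is a line is a sign change. -/
theorem line_of_invol {x : Perm (Fin 7)} (hx : x ∈ kList) (t : Fin 7 → ℤˣ)
    (hsq : fr.mon x t * fr.mon x t = 1) (w : V)
    (hw : ∀ v, (fr.mon x t : V ≃ₗ[F] V) v = v → ∃ c : F, v = c • w) : x = 1 := by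
  rw [mon_mul, ← mon_one] at hsq
  obtain ⟨hxx, htt⟩ := fr.mon_inj hsq
  by_contra hne
  obtain ⟨j, k, hj, hk, hkj, hkx⟩ := exists_two_moved x hx hne
  have hxa : ∀ a, x (x a) = a := fun a => by
    rw [← Perm.mul_apply, hxx]; rfl
  have hfix : ∀ a, (fr.mon x t : V ≃ₗ[F] V) (fr.b a + (sc (t a) : F) • fr.b (x a)) =
      fr.b a + (sc (t a) : F) • fr.b (x a) := by
    intro a
    have h1 : t a * t (x a) = 1 := congrFun htt a
    rw [map_add, map_smul, mon_basis, mon_basis, hxa, smul_smul, ← map_mul, h1, map_one, one_smul,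
      add_comm]
  obtain ⟨a, ha⟩ := hw _ (hfix j)
  obtain ⟨c, hc⟩ := hw _ (hfix k)
  have h1 := congrArg (fun v => fr.b.repr v j) ha
  have h2 := congrArg (fun v => fr.b.repr v j) hc
  have h3 := congrArg (fun v => fr.b.repr v k) hc
  have hjk : x k ≠ j := fun e => hkx (by rw [← e, hxa])
  simp only [map_add, map_smul, Finsupp.add_apply, Finsupp.smul_apply, Module.Basis.repr_self,
    Finsupp.single_eq_same, Finsupp.single_eq_of_ne (Ne.symm hj), smul_eq_mul, mul_zero,
    add_zero] at h1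
  simp only [map_add, map_smul, Finsupp.add_apply, Finsupp.smul_apply, Module.Basis.repr_self,
    Finsupp.single_eq_of_ne (Ne.symm hkj), Finsupp.single_eq_of_ne hjk.symm, smul_eq_mul, mul_zero,
    add_zero] at h2
  simp only [map_add, map_smul, Finsupp.add_apply, Finsupp.smul_apply, Module.Basis.repr_self,
    Finsupp.single_eq_same, Finsupp.single_eq_of_ne (Ne.symm hk), smul_eq_mul, mul_zero,
    add_zero] at h3
  rcases mul_eq_zero.1 h2.symm with h | h
  · rw [h, zero_mul] at h3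
    exact one_ne_zero h3
  · rw [h, mul_zero] at h1
    exact one_ne_zero h1

/-- The subgroup is self-normalizing in `Ω`. -/
theorem mem_syl_of_normalizes (hQ : Nondeg Q) (hns : ¬ IsSquare (2 : F)) {g : O Q}
    (hg : g ∈ commutator (O Q)) (hn : ∀ y ∈ fr.syl, g * y * g⁻¹ ∈ fr.syl) : g ∈ fr.syl := by
  have hline : ∀ i, ∃ j, ∃ e : ℤˣ, (g : V ≃ₗ[F] V) (fr.b i) = (sc e : F) • fr.b j := by
    intro i
    obtain ⟨x, hx, t, -, hy⟩ := hn _ (fr.diag_mem_syl (six_mem i))
    have hconj : ∀ v, ((g * fr.diag (six i) * g⁻¹ : O Q) : V ≃ₗ[F] V) ((g : V ≃ₗ[F] V) v) =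
        (g : V ≃ₗ[F] V) ((fr.diag (six i) : V ≃ₗ[F] V) v) := fun v => by
      rw [← mul_app, ← mul_app, ← Subgroup.coe_mul, ← Subgroup.coe_mul, inv_mul_cancel_right]
    have hfix : ∀ v, (fr.mon x t : V ≃ₗ[F] V) v = v →
        ∃ c : F, v = c • (g : V ≃ₗ[F] V) (fr.b i) := by
      intro v hv
      obtain ⟨w, rfl⟩ := (g : V ≃ₗ[F] V).surjective v
      rw [← hy, hconj] at hv
      obtain ⟨c, rfl⟩ := fr.fixed_of_six ((g : V ≃ₗ[F] V).injective hv)
      exact ⟨c, map_smul _ c _⟩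
    have hsq : fr.mon x t * fr.mon x t = 1 := by
      rw [← hy, show g * fr.diag (six i) * g⁻¹ * (g * fr.diag (six i) * g⁻¹) =
          g * (fr.diag (six i) * fr.diag (six i)) * g⁻¹ by group, ← map_mul,
        show six i * six i = 1 from funext fun a => Int.units_mul_self _, map_one, mul_one,
        mul_inv_cancel]
    obtain rfl := fr.line_of_invol hx t hsq _ hfix
    obtain ⟨j, hj⟩ : ∃ j, fr.b.repr ((g : V ≃ₗ[F] V) (fr.b i)) j ≠ 0 := by
      by_contra hcon
      push Not at hcon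
      exact fr.b.ne_zero i ((g : V ≃ₗ[F] V).map_eq_zero_iff.1
        (fr.b.repr.map_eq_zero_iff.1 (Finsupp.ext hcon)))
    have htj : (sc (t j) : F) = 1 := by
      have hgi : (fr.mon 1 t : V ≃ₗ[F] V) ((g : V ≃ₗ[F] V) (fr.b i)) =
          (g : V ≃ₗ[F] V) (fr.b i) := by
        rw [← hy, hconj]
        congr 1
        rw [diag_apply, mon_basis]
        simp [six]
      have h1 := congrArg (fun v => polar Q (fr.b j) v) hgi
      conv_rhs at h1 => rw [← O.polar_app (fr.mon 1 t)]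
      rw [mon_basis, polar_smul_left', Perm.one_apply] at h1
      have h0 : polar Q (fr.b j) ((fr.mon 1 t : V ≃ₗ[F] V) ((g : V ≃ₗ[F] V) (fr.b i))) ≠ 0 := by
        rw [hgi, polar_repr]
        exact mul_ne_zero (by simpa using fr.two) hj
      exact (mul_eq_right₀ h0).1 h1.symm
    obtain ⟨c, hc⟩ := hfix (fr.b j) (by rw [mon_basis, htj, one_smul, Perm.one_apply])
    have hc0 : c ≠ 0 := fun h => fr.b.ne_zero j (by rw [hc, h, zero_smul])
    have hq : Q (fr.b j) = -1 := fr.qb j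
    rw [hc, qmap_smul, O.map_app, fr.qb] at hq
    obtain ⟨e, rfl⟩ := exists_sgn c (by linear_combination -hq)
    exact ⟨j, e, by rw [hc, smul_smul, sc_mul_self, one_smul]⟩
  choose σ s hσ using hline
  have hinj : Function.Injective σ := by
    intro a a' h
    by_contra hne
    have h1 := O.polar_app g (fr.b a) (fr.b a')
    rw [fr.ortho a a' hne, hσ, hσ, polar_smul_left', polar_smul_right', h, polar_self',
      fr.qb] at h1
    exact mul_ne_zero (sc_ne_zero _) (mul_ne_zero (sc_ne_zero _)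
      (mul_ne_zero fr.two (neg_ne_zero.2 one_ne_zero))) h1
  let x : Perm (Fin 7) := Equiv.ofBijective σ (Finite.injective_iff_bijective.1 hinj)
  obtain rfl : g = fr.mon x s := fr.ext_b fun i => by rw [hσ, mon_basis]; rfl
  obtain ⟨hsx, hs⟩ := (fr.mon_mem_omega_iff hQ hns x s).1 hg
  have hK : ∀ d ∈ kList, x * d * x⁻¹ ∈ kList := by
    intro d hd
    obtain ⟨y, hy, t, -, he⟩ := hn _ (fr.perm_mem_syl hd)
    have e2 : fr.mon x s * fr.perm d * (fr.mon x s)⁻¹ * fr.mon x s = fr.mon x s * fr.perm d :=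
      inv_mul_cancel_right _ _
    rw [he, perm_apply, mon_mul, mon_mul] at e2
    have h3 := (fr.mon_inj e2).1
    rwa [show x * d * x⁻¹ = y by rw [← h3, mul_inv_cancel_right]]
  exact ⟨x, normK hsx (hK _ d1_mem) (hK _ d2_mem), s, hs, rfl⟩

/-- A subgroup closed under fusion into the group, meeting its centre, is the whole group. -/
theorem eq_syl_of_closed (hQ : Nondeg Q) (hns : ¬ IsSquare (2 : F)) {T : Subgroup (O Q)}
    (hT : T ≤ fr.syl)
    (hcl : ∀ y ∈ T, ∀ g ∈ commutator (O Q), g * y * g⁻¹ ∈ fr.syl → g * y * g⁻¹ ∈ T)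
    {z : O Q} (hz : z ∈ T) (hz1 : z ≠ 1) (hzc : ∀ y ∈ fr.syl, y * z = z * y) : T = fr.syl := by
  obtain ⟨x, hx, s, hs, rfl⟩ := hT hz
  have hx1 : x = 1 := by
    refine eq_one_of_pr x hx fun i j => ?_
    have h := hzc _ (fr.diag_mem_syl (pr_mem i j))
    rw [diag_apply, mon_mul, mon_mul] at h
    have h2 := (fr.mon_inj h).2
    rw [show s ∘ ⇑(1 : Perm (Fin 7)) = s from rfl, mul_comm (pr i j) s] at h2
    exact mul_left_cancel h2
  subst hx1
  have hinv : ∀ d ∈ kList, s ∘ ⇑d = s := by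
    intro d hd
    have h := hzc _ (fr.perm_mem_syl hd)
    rw [perm_apply, mon_mul, mon_mul] at h
    have h2 := (fr.mon_inj h).2
    simpa [Pi.one_comp] using h2.symm
  let A : Subgroup (Fin 7 → ℤˣ) := evenSgn ⊓ T.comap fr.diag
  have hA : evenSgn ≤ A := by
    refine eq_evenSgn A (fun t ht y hy => ?_) s ⟨hs, hz⟩ (fun h => hz1 (by rw [h, mon_one]))
      hs (hinv _ d1_mem) (hinv _ d2_mem)
    have ht' : ∏ i, (t ∘ y) i = 1 := (Equiv.prod_comp y t).trans ht.1
    refine ⟨ht', ?_⟩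
    have e := fr.perm_conj_diag y⁻¹ t
    rw [inv_inv] at e
    have := hcl _ ht.2 (fr.perm y⁻¹) (fr.perm_conj_mem_omega hQ hns (by rw [map_inv, hy, inv_one]))
      (by rw [e]; exact fr.diag_mem_syl ht')
    rw [e] at this
    exact this
  have hD : ∀ t ∈ evenSgn, fr.diag t ∈ T := fun t ht => (hA ht).2
  -- the rotation carrying a sign change to a double transposition
  set v := fr.b 0 - fr.b 1 - fr.b 2 - fr.b 3 with hv
  have o := fr.ortho
  have hQv : Q v = -4 := by
    rw [hv, qmap_sub, qmap_sub, qmap_sub, fr.qb, fr.qb, fr.qb, fr.qb, polar_sub_left,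
      polar_sub_left, polar_sub_left, o 0 1 (by decide), o 0 2 (by decide), o 0 3 (by decide),
      o 1 2 (by decide), o 1 3 (by decide), o 2 3 (by decide)]
    ring
  have h4 : Q v ≠ 0 := by
    rw [hQv, show (-4 : F) = -(2 * 2) by norm_num]
    exact neg_ne_zero.2 (mul_ne_zero fr.two fr.two)
  let g : O Q := rO Q v * rO Q (fr.b 6)
  have hgΩ : g ∈ commutator (O Q) := by
    rw [mem_commutator_iff hQ fr.two]
    refine ⟨by rw [map_mul, detSign_rO hQ fr.two h4, detSign_rO hQ fr.two (fr.qb_ne 6)]; decide, ?_⟩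
    rw [map_mul, spinor_rO hQ fr.two h4, spinor_rO hQ fr.two (fr.qb_ne 6),
      ← sqSign_mul fr.two h4 (fr.qb_ne 6), hQv, fr.qb]
    exact sqSign_of_isSquare ⟨2, by norm_num⟩
  have hg : ∀ i, i ≠ 6 → (g : V ≃ₗ[F] V) (fr.b i) = fr.b i - ((Q v)⁻¹ * polar Q v (fr.b i)) • v :=
    fun i hi => by rw [Subgroup.coe_mul, mul_app, rO_fix (o 6 i (Ne.symm hi)), rO_app]
  have hp0 : polar Q v (fr.b 0) = -2 := by
    rw [hv, polar_sub_left, polar_sub_left, polar_sub_left, polar_self', fr.qb,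
      o 1 0 (by decide), o 2 0 (by decide), o 3 0 (by decide)]
    ring
  have hp1 : polar Q v (fr.b 1) = 2 := by
    rw [hv, polar_sub_left, polar_sub_left, polar_sub_left, polar_self', fr.qb,
      o 0 1 (by decide), o 2 1 (by decide), o 3 1 (by decide)]
    ring
  have h22 : (2 : F) ≠ 0 := fr.two
  have h44 : (4 : F) ≠ 0 := by rw [show (4 : F) = 2 * 2 by norm_num]; exact mul_ne_zero h22 h22
  set u := (g : V ≃ₗ[F] V) (fr.b 0) with hu
  set u' := (g : V ≃ₗ[F] V) (fr.b 1) with hu'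
  have hsum : u + u' = fr.b 0 + fr.b 1 := by
    rw [hu, hu', hg 0 (by decide), hg 1 (by decide), hp0, hp1]
    match_scalars <;> ring
  have hdiff : u - u' = fr.b 2 + fr.b 3 := by
    rw [hu, hu', hg 0 (by decide), hg 1 (by decide), hp0, hp1, hQv, hv]
    match_scalars <;> field_simp <;> ring
  let t₀ : Fin 7 → ℤˣ := pr 0 1 * pr 2 3
  have hconj : g * fr.diag (pr 0 1) * g⁻¹ = fr.mon d1 t₀ := by
    have hplus : ∀ i j, i ≠ j →
        fr.diag (Pi.mulSingle j (-1)) * fr.perm (swap i j) * (fr.diag (Pi.mulSingle j (-1)))⁻¹ =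
          rO Q (fr.b i + fr.b j) := by
      intro i j hij
      rw [fr.perm_swap hij, diag_single, conj_rO, map_sub, rO_self (fr.qb_ne j),
        rO_fix (o j i (Ne.symm hij)), sub_neg_eq_add]
    have hqu : Q u = Q u' := by rw [hu, hu', O.map_app, O.map_app, fr.qb, fr.qb]
    have hl : g * fr.diag (pr 0 1) * g⁻¹ = rO Q (fr.b 0 + fr.b 1) * rO Q (fr.b 2 + fr.b 3) := by
      rw [pr, map_mul, diag_single, diag_single,
        show g * (rO Q (fr.b 0) * rO Q (fr.b 1)) * g⁻¹ =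
          g * rO Q (fr.b 0) * g⁻¹ * (g * rO Q (fr.b 1) * g⁻¹) by group, conj_rO, conj_rO, ← hu,
        ← hu', rO_mul_rO_rot h22 (by rw [hu, hu', O.polar_app, o 0 1 (by decide)]) hqu
          (by rw [hu, O.map_app]; exact fr.qb_ne 0), hsum, hdiff]
    rw [hl, ← hplus 0 1 (by decide), ← hplus 2 3 (by decide), ← map_inv, ← map_inv]
    simp only [diag_apply, perm_apply, mon_mul]
    congr 1 <;> decide +kernel
  have ht₀ : t₀ ∈ evenSgn := evenSgn.mul_mem (pr_mem 0 1) (pr_mem 2 3)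
  have hp1T : fr.perm d1 ∈ T := by
    have h := hcl _ (hD _ (pr_mem 0 1)) g hgΩ (by rw [hconj]; exact ⟨d1, d1_mem, t₀, ht₀, rfl⟩)
    rw [hconj, mon_eq] at h
    have := T.mul_mem h (T.inv_mem (hD _ ht₀))
    rwa [mul_inv_cancel_right] at this
  have hp2T : fr.perm d2 ∈ T := by
    have e : fr.perm sig * fr.perm d1 * (fr.perm sig)⁻¹ = fr.perm d2 := by
      rw [← map_inv, ← map_mul, ← map_mul, sig_conj]
    have := hcl _ hp1T (fr.perm sig) (fr.perm_conj_mem_omega hQ hns sig_sign)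
      (by rw [e]; exact fr.perm_mem_syl d2_mem)
    rwa [e] at this
  refine le_antisymm hT ?_
  rintro _ ⟨y, hy, t, ht, rfl⟩
  rw [mon_eq]
  exact T.mul_mem (kGroup_eq_closure (H := T.comap fr.perm) hp1T hp2T hy) (hD _ ht)

end Fr

end Cfsg.Agent.H14.OmegaSeven
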